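import Cfsg.Agent.Chars.OddNormalizer68.Descent
import Cfsg.Agent.Chars.Basic.Linear
import Cfsg.Agent.Transfer.Tate
import Cfsg.Agent.OddSixteen.Assembly14
import Cfsg.Agent.OddOrder.PF12.Statement1540
import Cfsg.Agent.PGroup.Frattini

/-!
The sum of the squares of the odd character degrees and the Sylow 2-normalizer.
-/

set_option autoImplicit false
set_option linter.style.haveILetI false
set_option linter.unusedSectionVars false

noncomputable section

namespace CfsgLib.Chars.OddNormalizer68

open Cfsg CfsgLib.Chars CfsgLib.Chars.Induced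
open scoped commutatorElement

universe u

/-- The order of a subgroup times a relative index. -/
theorem card_mul_relIndex' {X : Type u} [Group X] {A B : Subgroup X} (h : A ≤ B) :
    Nat.card A * A.relIndex B = Nat.card B := by
  rw [← Subgroup.relIndex_bot_left, Subgroup.relIndex_mul_relIndex _ _ _ bot_le h,
    Subgroup.relIndex_bot_left]

/-- A group with a normal, proper Sylow 2-subgroup has a linear character of odd prime order. -/
theorem exists_odd_linear {X : Type u} [Group X] [Finite X] (P : Sylow 2 X) [(P : Subgroup X).Normal]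
    (hne : (P : Subgroup X) ≠ ⊤) :
    ∃ (r : ℕ) (l : X →* ℂˣ), r.Prime ∧ r ≠ 2 ∧ orderOf l = r := by
  haveI : Fact (Nat.Prime 2) := ⟨Nat.prime_two⟩
  set Q := X ⧸ (P : Subgroup X)
  have hodd : Odd (Nat.card Q) := by
    rw [← Subgroup.index_eq_card, Nat.odd_iff]
    have := P.not_dvd_index
    omega
  have hsol : Group.IsSolvable Q :=
    CfsgLib.OddSixteen.oddOrder_of_p1540Core CfsgLib.OddOrder.PF12.p1540Core hodd
  have hnt : Nontrivial Q := by
    rw [← Finite.one_lt_card_iff_nontrivial, ← Subgroup.index_eq_card]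
    have h1 : (P : Subgroup X).index ≠ 1 := fun h => hne (Subgroup.index_eq_one.1 h)
    have h0 : (P : Subgroup X).index ≠ 0 := Subgroup.index_ne_zero_of_finite
    omega
  haveI := hsol
  have hcom : commutator Q ≠ ⊤ := (Group.IsSolvable.commutator_lt_top_of_nontrivial Q).ne
  obtain ⟨g, -, hg⟩ := SetLike.exists_of_lt (lt_top_iff_ne_top.2 hcom)
  obtain ⟨l₀, hl₀⟩ := exists_linChar_ne_one hg
  have hpow : l₀ ^ Nat.card Q = 1 := MonoidHom.ext fun x => by
    rw [MonoidHom.pow_apply, ← map_pow, pow_card_eq_one', map_one, MonoidHom.one_apply]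
  have hd : orderOf l₀ ∣ Nat.card Q := orderOf_dvd_of_pow_eq_one hpow
  have hne1 : orderOf l₀ ≠ 1 := fun h => hl₀ (by rw [orderOf_eq_one_iff.1 h]; rfl)
  set r := (orderOf l₀).minFac with hr
  have hrp : r.Prime := Nat.minFac_prime hne1
  have hpos : 0 < orderOf l₀ := Nat.pos_of_dvd_of_pos hd Nat.card_pos
  refine ⟨r, (l₀ ^ (orderOf l₀ / r)).comp (QuotientGroup.mk' (P : Subgroup X)), hrp, ?_, ?_⟩
  · intro h2
    have : 2 ∣ Nat.card Q := h2 ▸ (Nat.minFac_dvd _).trans hd
    rw [Nat.odd_iff] at hodd
    omega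
  · haveI : Fact r.Prime := ⟨hrp⟩
    refine orderOf_eq_prime ?_ ?_
    · refine MonoidHom.ext fun x => ?_
      simp only [MonoidHom.pow_apply, MonoidHom.comp_apply, MonoidHom.one_apply]
      rw [← pow_mul, Nat.div_mul_cancel (Nat.minFac_dvd _), ← MonoidHom.pow_apply, pow_orderOf_eq_one,
        MonoidHom.one_apply]
    · intro h
      have h1 : l₀ ^ (orderOf l₀ / r) = 1 := by
        refine MonoidHom.ext fun x => ?_
        obtain ⟨y, rfl⟩ := QuotientGroup.mk'_surjective (P : Subgroup X) x
        exact DFunLike.congr_fun h y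
      have h2 := Nat.le_of_dvd (Nat.div_pos (Nat.le_of_dvd hpos (Nat.minFac_dvd _)) hrp.pos)
        (orderOf_dvd_of_pow_eq_one (x := l₀) h1)
      simp only [← hr] at h2
      have h3 := Nat.div_lt_self hpos hrp.one_lt
      omega

/-- If restriction to the Sylow normalizer is injective and irreducible on odd degrees, the common
kernel of these characters and the normalizer generate the group. -/
theorem oddKer_sup_eq_top : ∀ (n : ℕ) {G : Type u} [Group G] [Fintype G], Nat.card G = n →
    ∀ (P : Sylow 2 G), RestrictHyp (Subgroup.normalizer ((P : Subgroup G) : Set G)) →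
    oddKer G ⊔ Subgroup.normalizer ((P : Subgroup G) : Set G) = ⊤ := by
  intro n
  induction n using Nat.strong_induction_on with
  | _ n ih =>
  intro G _ _ hn P hyp
  classical
  haveI : Fact (Nat.Prime 2) := ⟨Nat.prime_two⟩
  set H := Subgroup.normalizer ((P : Subgroup G) : Set G) with hH
  haveI := Fintype.ofFinite H
  have hHodd : ¬ 2 ∣ H.index := fun h =>
    P.not_dvd_index (h.trans (Subgroup.index_dvd_of_le Subgroup.le_normalizer))
  set PH : Sylow 2 H := P.subtype Subgroup.le_normalizer with hPH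
  haveI hPn : (PH : Subgroup H).Normal := by
    rw [hPH, Sylow.coe_subtype]
    exact Subgroup.normal_in_normalizer
  by_cases htop : (PH : Subgroup H) = ⊤
  · -- the Sylow subgroup is self-normalizing
    have hlin : ∀ χ : IrrCharacter G, ¬ 2 ∣ charDegree (χ : G → ℂ) →
        commutator G ≤ charKer (χ : G → ℂ) := by
      intro χ hχ
      have hd : charDegree ((⟨_, hyp.irr χ hχ⟩ : IrrCharacter H) : H → ℂ) = charDegree (χ : G → ℂ) :=
        charDegree_restrict H χ _ fun _ => rfl
      have hp : IsPGroup 2 H := (PH.isPGroup'.of_equiv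
        ((MulEquiv.subgroupCongr htop).trans Subgroup.topEquiv))
      rw [commutator_le_charKer_iff, ← charDegree_eq_one_iff, ← hd]
      exact Apps.charDegree_eq_one_of_isPGroup hp _ (hd ▸ hχ)
    have hKG : commutator G ≤ oddKer G := le_iInf fun χ => hlin χ.1 χ.2
    set D := commutator G ⊔ (P : Subgroup G) with hD
    haveI : D.Normal := by
      constructor
      intro d hd g
      have h1 : g * d * g⁻¹ = ⁅g, d⁆ * d := by rw [commutatorElement_def]; group
      rw [h1]
      exact mul_mem ((le_sup_left : commutator G ≤ D) (Subgroup.commutator_mem_commutator (Subgroup.mem_top g)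
        (Subgroup.mem_top d))) hd
    have hf := Sylow.normalizer_sup_eq_top (N := D) (P.subtype le_sup_right)
    rw [Sylow.coe_subtype, Subgroup.map_subgroupOf_eq_of_le le_sup_right, ← hH] at hf
    have hHP : H = (P : Subgroup G) := by
      refine le_antisymm (fun x hx => ?_) Subgroup.le_normalizer
      have : (⟨x, hx⟩ : H) ∈ (PH : Subgroup H) := htop ▸ Subgroup.mem_top _
      rwa [hPH, Sylow.coe_subtype, Subgroup.mem_subgroupOf] at this
    rw [eq_top_iff, ← hf]
    exact sup_le le_sup_right (sup_le (hKG.trans le_sup_left) (hHP ▸ le_sup_right))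
  · obtain ⟨r, lam, hrp, hr2, hlam⟩ := exists_odd_linear PH htop
    haveI : Fact r.Prime := ⟨hrp⟩
    obtain ⟨χ, hχodd, hχ⟩ := hyp.exists_restrict hHodd (linChar lam)
      (by rw [charDegree_linChar]; omega)
    have hχ1 : (χ : G → ℂ) 1 = 1 := by
      have := hχ 1
      rwa [OneMemClass.coe_one, linChar_map_one] at this
    obtain ⟨l, rfl⟩ := exists_linChar_eq χ hχ1
    have hlH : ∀ h : H, l h = lam h := fun h => Units.ext (by simpa using hχ h)
    have hlr : l ^ r = 1 := by
      apply linChar_injective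
      refine hyp.inj _ _ (by rw [charDegree_linChar]; omega) (by rw [charDegree_linChar]; omega)
        fun h => ?_
      rw [linChar_apply, linChar_apply, MonoidHom.pow_apply, hlH, ← MonoidHom.pow_apply, ← hlam,
        pow_orderOf_eq_one]
      rfl
    set M := l.ker with hM
    haveI := Fintype.ofFinite M
    haveI := Fintype.ofFinite (H.subgroupOf M)
    have hlr' : ∀ g, l g ^ r = 1 := fun g => by
      rw [← MonoidHom.pow_apply, hlr, MonoidHom.one_apply]
    have hlam1 : ∃ h : H, lam h ≠ 1 := by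
      by_contra! h
      rw [show lam = 1 from MonoidHom.ext h, orderOf_one] at hlam
      exact hrp.one_lt.ne hlam
    have hrange : ∀ (Y : Type u) [Group Y] [Finite Y] (m : Y →* ℂˣ), (∀ y, m y ^ r = 1) →
        (∃ y, m y ≠ 1) → Nat.card m.range = r := by
      intro Y _ _ m hm hne
      obtain ⟨y, hy⟩ := hne
      have hle : m.range ≤ (rootsOfUnity r ℂ) := by
        rintro _ ⟨z, rfl⟩
        exact (mem_rootsOfUnity _ _).2 (hm z)
      have hd : Nat.card m.range ∣ r := by
        haveI : NeZero r := ⟨hrp.ne_zero⟩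
        have := Subgroup.card_dvd_of_le hle
        rwa [Complex.card_rootsOfUnity r] at this
      rcases (Nat.dvd_prime hrp).1 hd with h | h
      · exact absurd (Subgroup.mem_bot.1 ((Subgroup.card_eq_one.1 h) ▸ ⟨y, rfl⟩)) hy
      · exact h
    have hMr : M.index = r := by
      rw [hM, Subgroup.index_ker]
      exact hrange G l hlr' (hlam1.imp' Subtype.val fun h hh => by rwa [hlH h])
    have hMH : (M.subgroupOf H).index = r := by
      have : M.subgroupOf H = lam.ker := by
        ext h
        rw [Subgroup.mem_subgroupOf, hM, MonoidHom.mem_ker, MonoidHom.mem_ker, hlH]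
      rw [this, Subgroup.index_ker]
      exact hrange H lam (fun h => hlH h ▸ hlr' h) hlam1
    have hPM : (P : Subgroup G) ≤ M := by
      intro x hx
      obtain ⟨k, hk⟩ := IsPGroup.iff_orderOf.1 P.isPGroup' ⟨x, hx⟩
      rw [Subgroup.orderOf_mk] at hk
      have h1 : orderOf (l x) ∣ 2 ^ k := hk ▸ orderOf_map_dvd l x
      have h2 : orderOf (l x) ∣ r := orderOf_dvd_of_pow_eq_one (hlr' x)
      rw [hM, MonoidHom.mem_ker, ← orderOf_eq_one_iff]
      exact Nat.eq_one_of_dvd_coprimes
        (Nat.Coprime.pow_left k ((Nat.coprime_primes Nat.prime_two hrp).2 (Ne.symm hr2))) h1 h2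
    have hdesc := descend H M hyp l (fun g => by rw [hM, MonoidHom.mem_ker]) hlr' hMr hMH
      (fun h => hr2 (((Nat.prime_dvd_prime_iff_eq Nat.prime_two hrp).1 h).symm))
    have hlt : Nat.card M < n := by
      rw [← hn, ← M.card_mul_index, hMr]
      exact lt_mul_of_one_lt_right Nat.card_pos hrp.one_lt
    have hnorm : Subgroup.normalizer (((P.subtype hPM : Sylow 2 M) : Subgroup M) : Set M) =
        H.subgroupOf M := by
      rw [Sylow.coe_subtype, hH, Subgroup.subgroupOf_normalizer_eq hPM]
    have hind := ih (Nat.card M) hlt rfl (P.subtype hPM) (hnorm.symm ▸ hdesc)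
    rw [hnorm] at hind
    have hK : (oddKer M).map M.subtype ≤ oddKer G := by
      rintro _ ⟨x, hx, rfl⟩
      rw [mem_oddKer]
      intro χ hχ
      obtain ⟨s, hs, hes⟩ := exists_eq_sum_mult (isCharacter_restrict (isCharacter_coe χ) M)
      have h1 := congrFun hes x
      have h2 := congrFun hes 1
      simp only [Finset.sum_apply, Pi.smul_apply, OneMemClass.coe_one] at h1 h2
      show (χ : G → ℂ) (x : G) = (χ : G → ℂ) 1
      rw [h1, h2]
      exact Finset.sum_congr rfl fun η hη => by
        rw [(mem_oddKer.1 hx) η (odd_constituent M χ hχ η ((hs η).1 hη))]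
    have hMle : M ≤ oddKer G ⊔ H := by
      calc M = (oddKer M ⊔ H.subgroupOf M).map M.subtype := by
            rw [hind, ← MonoidHom.range_eq_map, Subgroup.range_subtype]
        _ ≤ oddKer G ⊔ H := by
            rw [Subgroup.map_sup]
            exact sup_le_sup hK (fun _ ⟨y, hy, hyx⟩ => hyx ▸ hy)
    obtain ⟨h0, hh0⟩ := hlam1
    have hlt' : M < oddKer G ⊔ H := lt_of_le_of_ne hMle fun he => hh0 (by
      have : (h0 : G) ∈ M := he ▸ Subgroup.mem_sup_right h0.2
      rwa [hM, MonoidHom.mem_ker, hlH] at this)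
    have hd := Subgroup.relIndex_mul_index hMle
    rw [hMr] at hd
    rcases (Nat.dvd_prime hrp).1 (Dvd.intro _ hd) with h | h
    · exact absurd (Subgroup.relIndex_eq_one.1 h) hlt'.not_ge
    · rw [h] at hd
      exact Subgroup.index_eq_one.1 ((mul_eq_left₀ hrp.ne_zero).1 hd)

variable {G : Type u} [Group G] [Fintype G]

/-- The odd degrees of a group with a normal Sylow 2-subgroup. -/
theorem sum_odd_sq_normalizer (P : Sylow 2 G) [Fintype (Subgroup.normalizer ((P : Subgroup G) : Set G))] :
    Nat.card (commutator (P : Subgroup G)) *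
      ∑ᶠ θ : {θ : IrrCharacter (Subgroup.normalizer ((P : Subgroup G) : Set G)) //
          ¬ 2 ∣ charDegree (θ : (Subgroup.normalizer ((P : Subgroup G) : Set G)) → ℂ)},
        charDegree (θ.1 : (Subgroup.normalizer ((P : Subgroup G) : Set G)) → ℂ) ^ 2 =
      Nat.card (Subgroup.normalizer ((P : Subgroup G) : Set G)) := by
  classical
  haveI : Fact (Nat.Prime 2) := ⟨Nat.prime_two⟩
  set H := Subgroup.normalizer ((P : Subgroup G) : Set G) with hH
  set PH : Sylow 2 H := P.subtype Subgroup.le_normalizer with hPH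
  haveI hPn : (PH : Subgroup H).Normal := by
    rw [hPH, Sylow.coe_subtype]
    exact Subgroup.normal_in_normalizer
  set D := (commutator (PH : Subgroup H)).map (PH : Subgroup H).subtype with hD
  haveI : D.Normal := ConjAct.normal_of_characteristic_of_normal
  rw [finsum_eq_sum_of_fintype, ← Finset.sum_subtype
    (Finset.univ.filter fun θ : IrrCharacter H => D ≤ charKer (θ : H → ℂ))
    (fun θ => by rw [Finset.mem_filter]; exact ⟨fun h => (not_two_dvd_iff PH θ).2 h.2,
      fun h => ⟨Finset.mem_univ _, (not_two_dvd_iff PH θ).1 h⟩⟩)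
    fun θ : IrrCharacter H => charDegree (θ : H → ℂ) ^ 2,
    sum_charDegree_sq_of_le_charKer D, ← D.card_mul_index]
  congr 1
  rw [hD, Subgroup.card_map_of_injective (PH : Subgroup H).subtype_injective]
  have e : (PH : Subgroup H) ≃* (P : Subgroup G) :=
    (MulEquiv.subgroupCongr (Sylow.coe_subtype ..)).trans
      (Subgroup.subgroupOfEquivOfLe Subgroup.le_normalizer)
  rw [← Subgroup.card_map_of_injective (f := e.toMonoidHom) e.injective,
    show (commutator (PH : Subgroup H)).map e.toMonoidHom = commutator (P : Subgroup G) from by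
      rw [commutator_def, commutator_def, Subgroup.map_commutator,
        Subgroup.map_top_of_surjective _ e.surjective]]

/-- Equality forces a normal complement to the normalizer. -/
theorem exists_complement (P : Sylow 2 G)
    (hyp : RestrictHyp (Subgroup.normalizer ((P : Subgroup G) : Set G))) :
    ∃ K : Subgroup G, K.Normal ∧ K ⊓ Subgroup.normalizer ((P : Subgroup G) : Set G) = ⊥ ∧
      K ⊔ Subgroup.normalizer ((P : Subgroup G) : Set G) = ⊤ := by
  classical
  haveI : Fact (Nat.Prime 2) := ⟨Nat.prime_two⟩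
  set H := Subgroup.normalizer ((P : Subgroup G) : Set G) with hH
  haveI := Fintype.ofFinite H
  have hHodd : ¬ 2 ∣ H.index := fun h =>
    P.not_dvd_index (h.trans (Subgroup.index_dvd_of_le Subgroup.le_normalizer))
  set PH : Sylow 2 H := P.subtype Subgroup.le_normalizer with hPH
  haveI hPn : (PH : Subgroup H).Normal := by
    rw [hPH, Sylow.coe_subtype]
    exact Subgroup.normal_in_normalizer
  set D := (commutator (PH : Subgroup H)).map (PH : Subgroup H).subtype with hD
  haveI : D.Normal := ConjAct.normal_of_characteristic_of_normal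
  set K₀ := oddKer G with hK₀
  haveI hK₀n : K₀.Normal := oddKer_normal
  have hsup : K₀ ⊔ H = ⊤ := oddKer_sup_eq_top _ rfl P hyp
  -- the intersection lies in the derived subgroup of `P`
  have hint : ∀ x : H, (x : G) ∈ K₀ → x ∈ D := by
    intro x hx
    rw [← QuotientGroup.eq_one_iff]
    have h1 : (x : H ⧸ D) ∈ ⨅ ψ : IrrCharacter (H ⧸ D), charKer (ψ : H ⧸ D → ℂ) := by
      rw [Subgroup.mem_iInf]
      intro ψ
      rw [mem_charKer_iff (isCharacter_coe ψ)]
      obtain ⟨χ, hχ, hres⟩ := hyp.exists_restrict hHodd (inflate D ψ)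
        ((not_two_dvd_iff PH _).2 (le_charKer_inflate D ψ))
      have := (mem_oddKer.1 hx) χ hχ
      rw [hres x, show (χ : G → ℂ) 1 = _ from hres 1] at this
      exact this
    rwa [iInf_charKer_eq_bot, Subgroup.mem_bot] at h1
  have hfr : K₀ ⊓ (P : Subgroup G) ≤ (frattini (P : Subgroup G)).map (P : Subgroup G).subtype := by
    intro x hx
    obtain ⟨y, hy, hyx⟩ := hint ⟨x, Subgroup.le_normalizer hx.2⟩ hx.1
    have hmem : ∀ z : (PH : Subgroup H), ((z : H) : G) ∈ (P : Subgroup G) := fun z => by
      have h : (z : H) ∈ (P : Subgroup G).subgroupOf H := z.2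
      exact h
    let e : (PH : Subgroup H) →* (P : Subgroup G) :=
      { toFun := fun z => ⟨((z : H) : G), hmem z⟩
        map_one' := rfl
        map_mul' := fun _ _ => rfl }
    refine ⟨e y, PGroup.commutator_le_frattini P.isPGroup' ?_, congrArg Subtype.val hyx⟩
    have : (commutator (PH : Subgroup H)).map e ≤ commutator (P : Subgroup G) := by
      rw [commutator_def, commutator_def, Subgroup.map_commutator]
      exact Subgroup.commutator_mono le_top le_top
    exact this ⟨y, hy, rfl⟩
  obtain ⟨S, L0, hL0, hL0S⟩ := Transfer.tate_normal_pComplement P K₀ hfr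
  obtain ⟨a, ha⟩ := IsPGroup.iff_card.1 S.isPGroup'
  have hidx : L0.index = 2 ^ a := hL0S.symm.index_eq_card.trans ha
  have hcop : Nat.Coprime (Nat.card L0) 2 := by
    rw [Nat.coprime_comm, Nat.prime_two.coprime_iff_not_dvd, ← hL0S.index_eq_card]
    exact S.not_dvd_index
  have hmemL : ∀ x : K₀, ¬ 2 ∣ orderOf x → x ∈ L0 := by
    intro x hx
    haveI := hL0
    rw [← QuotientGroup.eq_one_iff, ← orderOf_eq_one_iff]
    refine Nat.eq_one_of_dvd_coprimes (a := orderOf x) (b := 2 ^ a)
      (Nat.Coprime.pow_right a ((Nat.prime_two.coprime_iff_not_dvd.2 hx).symm))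
      (orderOf_map_dvd (QuotientGroup.mk' L0) x) ?_
    rw [← hidx, Subgroup.index_eq_card]
    exact orderOf_dvd_natCard _
  set L := L0.map K₀.subtype with hL
  have hLodd : ¬ 2 ∣ Nat.card L := by
    rw [hL, Subgroup.card_map_of_injective K₀.subtype_injective]
    exact Nat.prime_two.coprime_iff_not_dvd.1 hcop.symm
  refine ⟨L, ⟨?_⟩, ?_, ?_⟩
  · rintro n ⟨x, hx, rfl⟩ g
    refine ⟨⟨g * x * g⁻¹, hK₀n.conj_mem _ x.2 g⟩, hmemL _ ?_, rfl⟩
    intro h2
    rw [← Subgroup.orderOf_coe] at h2
    have h3 : orderOf (g * (x : G) * g⁻¹) = orderOf (x : G) :=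
      orderOf_injective (MulAut.conj g).toMonoidHom (MulAut.conj g).injective _
    refine hLodd (h2.trans ?_)
    rw [h3]
    exact Subgroup.orderOf_dvd_natCard L ⟨x, hx, rfl⟩
  · rw [Subgroup.eq_bot_iff_forall]
    rintro x ⟨hxL, hxH⟩
    obtain ⟨x', hx', rfl⟩ := hxL
    obtain ⟨y, -, hyx⟩ := hint ⟨(x' : G), hxH⟩ x'.2
    obtain ⟨k, hk⟩ := IsPGroup.iff_orderOf.1 PH.isPGroup' y
    have h1 : orderOf (x' : G) = 2 ^ k := by
      rw [← hk, ← Subgroup.orderOf_coe y, ← Subgroup.orderOf_coe (y : H)]
      exact congrArg orderOf (congrArg Subtype.val hyx).symm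
    have h2 : orderOf (x' : G) ∣ Nat.card L := Subgroup.orderOf_dvd_natCard L ⟨x', hx', rfl⟩
    show (x' : G) = 1
    rw [← orderOf_eq_one_iff, h1]
    rcases Nat.eq_zero_or_pos k with rfl | hk0
    · rfl
    · exact absurd ((dvd_pow_self 2 hk0.ne').trans (h1 ▸ h2)) hLodd
  · have hle : K₀ ≤ L ⊔ H := by
      set W := (L ⊔ H).subgroupOf K₀
      have hd1 : L0 ≤ W := fun x hx => Subgroup.mem_sup_left ⟨x, hx, rfl⟩
      obtain ⟨Q, hQ⟩ : ∃ Q : Sylow 2 K₀, (Q : Subgroup K₀) = (P : Subgroup G).subgroupOf K₀ := by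
        refine ⟨(P.isPGroup'.comap_subtype (K := K₀)).toSylow ?_, IsPGroup.toSylow_coe _ _⟩
        show ¬ 2 ∣ (P : Subgroup G).relIndex K₀
        intro h
        refine P.not_dvd_index (h.trans ?_)
        refine Nat.dvd_of_mul_dvd_mul_left (Nat.card_pos (α := (P : Subgroup G))) ?_
        rw [(P : Subgroup G).card_mul_index]
        have e1 := card_mul_relIndex' (le_sup_right : K₀ ≤ (P : Subgroup G) ⊔ K₀)
        rw [Subgroup.relIndex_sup_right] at e1
        have e2 := card_mul_relIndex' (inf_le_right : K₀ ⊓ (P : Subgroup G) ≤ (P : Subgroup G))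
        rw [Subgroup.inf_relIndex_right] at e2
        have e3 := card_mul_relIndex' (inf_le_right : (P : Subgroup G) ⊓ K₀ ≤ K₀)
        rw [Subgroup.inf_relIndex_right, inf_comm] at e3
        have e4 : Nat.card (P : Subgroup G) * (P : Subgroup G).relIndex K₀ =
            Nat.card ((P : Subgroup G) ⊔ K₀ : Subgroup G) := by
          rw [← e1, ← e2]
          conv_rhs => rw [← e3]
          ring
        rw [e4]
        exact Subgroup.card_subgroup_dvd_card _
      have hd2 : (Q : Subgroup K₀) ≤ W := fun x hx => by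
        rw [hQ, Subgroup.mem_subgroupOf] at hx
        exact Subgroup.mem_sup_right (Subgroup.le_normalizer hx)
      have hW : W.index = 1 := Nat.eq_one_of_dvd_coprimes (a := 2 ^ a) (b := (Q : Subgroup K₀).index)
        (Nat.Coprime.pow_left a (Nat.prime_two.coprime_iff_not_dvd.2 Q.not_dvd_index))
        (hidx ▸ Subgroup.index_dvd_of_le hd1) (Subgroup.index_dvd_of_le hd2)
      intro x hx
      have : (⟨x, hx⟩ : K₀) ∈ W := by rw [Subgroup.index_eq_one.1 hW]; trivial
      exact this
    rw [eq_top_iff, ← hsup]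
    exact sup_le hle le_sup_right

/-- A normal complement makes the two sums equal. -/
theorem sum_eq_of_complement (P : Sylow 2 G) [Fintype (Subgroup.normalizer ((P : Subgroup G) : Set G))]
    (K : Subgroup G) [K.Normal] (hbot : K ⊓ Subgroup.normalizer ((P : Subgroup G) : Set G) = ⊥)
    (htop : K ⊔ Subgroup.normalizer ((P : Subgroup G) : Set G) = ⊤) :
    ∑ᶠ χ : {χ : IrrCharacter G // ¬ 2 ∣ charDegree (χ : G → ℂ)}, charDegree (χ.1 : G → ℂ) ^ 2 =
      ∑ᶠ θ : {θ : IrrCharacter (Subgroup.normalizer ((P : Subgroup G) : Set G)) //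
          ¬ 2 ∣ charDegree (θ : (Subgroup.normalizer ((P : Subgroup G) : Set G)) → ℂ)},
        charDegree (θ.1 : (Subgroup.normalizer ((P : Subgroup G) : Set G)) → ℂ) ^ 2 := by
  classical
  haveI : Fact (Nat.Prime 2) := ⟨Nat.prime_two⟩
  haveI := Fintype.ofFinite K
  set H := Subgroup.normalizer ((P : Subgroup G) : Set G) with hH
  let f : H →* G ⧸ K := (QuotientGroup.mk' K).comp H.subtype
  have hinj : Function.Injective f := by
    rw [← MonoidHom.ker_eq_bot_iff, Subgroup.eq_bot_iff_forall]
    intro x hx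
    have hx' : (x : G) ∈ K := (QuotientGroup.eq_one_iff _).1 hx
    have : (x : G) ∈ K ⊓ H := ⟨hx', x.2⟩
    rw [hbot, Subgroup.mem_bot] at this
    exact Subtype.ext this
  have hsurj : Function.Surjective f := by
    intro q
    obtain ⟨g, rfl⟩ := QuotientGroup.mk'_surjective K q
    obtain ⟨k, hk, h, hh, rfl⟩ : ∃ k ∈ K, ∃ h ∈ H, k * h = g :=
      Subgroup.mem_sup_of_normal_left.1 (htop ▸ Subgroup.mem_top g)
    refine ⟨⟨h, hh⟩, ?_⟩
    show QuotientGroup.mk' K h = QuotientGroup.mk' K (k * h)
    rw [map_mul, show QuotientGroup.mk' K k = 1 from (QuotientGroup.eq_one_iff k).2 hk, one_mul]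
  let e : H ≃* G ⧸ K := MulEquiv.ofBijective f ⟨hinj, hsurj⟩
  have hKodd : ¬ 2 ∣ Nat.card K := by
    intro h2
    have hKH : Nat.card K * Nat.card H = Nat.card G := by
      rw [← K.card_mul_index, Nat.card_congr e.toEquiv, ← Subgroup.index_eq_card]
    refine (show ¬ 2 ∣ H.index from fun h => P.not_dvd_index
      (h.trans (Subgroup.index_dvd_of_le Subgroup.le_normalizer))) ?_
    have : H.index = Nat.card K := by
      refine mul_left_cancel₀ (Nat.card_pos (α := H)).ne' ?_
      rw [H.card_mul_index, ← hKH, mul_comm]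
    rwa [this]
  have hker : ∀ χ : IrrCharacter G, ¬ 2 ∣ charDegree (χ : G → ℂ) → K ≤ charKer (χ : G → ℂ) := by
    intro χ hχ
    obtain ⟨θ, hθ, hinv⟩ := Apps.exists_invariant_constituent (N := K) (P : Subgroup G) P.isPGroup' χ hχ
    have hC : K ⊓ Subgroup.centralizer ((P : Subgroup G) : Set G) = ⊥ := by
      refine le_bot_iff.1 (le_trans (inf_le_inf_left _ ?_) hbot.le)
      intro x hx
      rw [hH, Subgroup.mem_normalizer_iff]
      intro y
      have hc : ∀ y ∈ (P : Subgroup G), x * y * x⁻¹ = y := fun y hy => by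
        rw [← Subgroup.mem_centralizer_iff.1 hx y hy, mul_inv_cancel_right]
      constructor
      · intro hy; rwa [hc y hy]
      · intro hy
        have := hc _ hy
        rw [mul_left_inj, mul_right_inj] at this
        rwa [← this]
    have h1 := Apps.eq_oneChar_of_invariant (P : Subgroup G) P.isPGroup' hKodd hC θ hinv
    exact (le_charKer_iff (isCharacter_coe χ)).2 (Apps.eq_map_one_of_mult_oneChar K χ (h1 ▸ hθ))
  rw [finsum_eq_sum_of_fintype, finsum_eq_sum_of_fintype]
  symm
  have hdeg : ∀ θ : IrrCharacter H,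
      charDegree ((inflate K ((irrEquiv e) θ)) : G → ℂ) = charDegree (θ : H → ℂ) := fun θ => by
    rw [charDegree_inflate, charDegree_irrEquiv]
  refine Fintype.sum_equiv (Equiv.ofBijective
    (fun θ : {θ : IrrCharacter H // ¬ 2 ∣ charDegree (θ : H → ℂ)} =>
      (⟨inflate K ((irrEquiv e) θ.1), by rw [hdeg]; exact θ.2⟩ :
        {χ : IrrCharacter G // ¬ 2 ∣ charDegree (χ : G → ℂ)})) ⟨?_, ?_⟩) _ _ fun θ => ?_
  · intro a b h
    exact Subtype.ext ((irrEquiv e).injective (inflate_injective K (congrArg Subtype.val h)))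
  · intro χ
    obtain ⟨ψ, hψ⟩ := exists_inflate_eq K χ.1 (hker χ.1 χ.2)
    refine ⟨⟨(irrEquiv e).symm ψ, ?_⟩, Subtype.ext ?_⟩
    · rw [← hdeg, Equiv.apply_symm_apply, hψ]; exact χ.2
    · show inflate K _ = χ.1
      rw [Equiv.apply_symm_apply, hψ]
  · show charDegree (θ.1 : H → ℂ) ^ 2 = charDegree _ ^ 2
    exact congrArg (· ^ 2) (hdeg θ.1).symm

end CfsgLib.Chars.OddNormalizer68
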